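import Groth.Agent.L21.Tsen.RatFunc
import Mathlib.RingTheory.AlgebraicIndependent.TranscendenceBasis
import Mathlib.RingTheory.AlgebraicIndependent.AlgebraicClosure
import Mathlib.FieldTheory.IntermediateField.Adjoin.Algebra

/-! `C_i` and transcendence degree. -/

namespace Groth.L21.Tsen

open _root_.Curves (IsCi)
open IntermediateField

universe u v

theorem isCi_adjoin_simple {F : Type u} [Field F] {E : Type v} [Field E] [Algebra F E] (y : E) {c : ℕ}
    (hF : IsCi F c) : IsCi F⟮y⟯ (c + 1) := by
  by_cases hy : Transcendental F y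
  · exact isCi_of_ringEquiv (RatFunc.algEquivOfTranscendental y hy).toRingEquiv (isCi_ratFunc hF)
  · have hint : IsIntegral F y := (not_not.1 hy : IsAlgebraic F y).isIntegral
    haveI := IntermediateField.adjoin.finiteDimensional hint
    exact isCi_succ (isCi_of_finite F F⟮y⟯ hF)

theorem isCi_adjoin_range {k : Type u} [Field k] {K : Type v} [Field K] [Algebra k K] {m : ℕ}
    (hk : IsCi k m) : ∀ (t : ℕ) (x : Fin t → K), IsCi (adjoin k (Set.range x)) (m + t) := by
  intro t
  induction t with
  | zero =>
    intro x
    have h : adjoin k (Set.range x) = ⊥ := by simp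
    rw [h]
    exact isCi_of_ringEquiv (IntermediateField.botEquiv k K).symm.toRingEquiv hk
  | succ t ih =>
    intro x
    set L := adjoin k (Set.range fun j : Fin t => x j.castSucc) with hL
    have h1 := isCi_adjoin_simple (F := L) (x (Fin.last t)) (ih fun j => x j.castSucc)
    have h2 : (L⟮x (Fin.last t)⟯).restrictScalars k = adjoin k (Set.range x) := by
      rw [hL, adjoin_adjoin_left]
      congr 1
      ext z
      constructor
      · rintro (⟨j, rfl⟩ | rfl) <;> exact ⟨_, rfl⟩
      · rintro ⟨j, rfl⟩
        rcases Fin.eq_castSucc_or_eq_last j with ⟨j', rfl⟩ | rfl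
        · exact Or.inl ⟨j', rfl⟩
        · exact Or.inr rfl
    rw [← h2]
    exact h1

theorem isCi_of_isTranscendenceBasis {k : Type u} [Field k] {K : Type v} [Field K] [Algebra k K]
    {m t : ℕ} {x : Fin t → K} (hx : IsTranscendenceBasis k x) (hk : IsCi k m) : IsCi K (m + t) := by
  haveI : Algebra.IsAlgebraic (adjoin k (Set.range x)) K := hx.isAlgebraic_field
  exact isCi_of_isAlgebraic (adjoin k (Set.range x)) K (isCi_adjoin_range hk t x)

end Groth.L21.Tsen
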