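import Groth.Agent.L21.Tsen.Basic
import Mathlib.FieldTheory.RatFunc.AsPolynomial
import Mathlib.RingTheory.Localization.Integer
import Mathlib.Algebra.Polynomial.BigOperators

/-! `C_i` for rational function fields. -/

namespace Groth.L21.Tsen

open _root_.Curves (IsCi)

universe u

variable {K : Type u} [Field K]

/-- All coefficients in `t` are homogeneous of degree `d`. -/
def HomogCoeffs {σ : Type*} (P : Polynomial (MvPolynomial σ K)) (d : ℕ) : Prop :=
  ∀ q, (P.coeff q).IsHomogeneous d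

theorem HomogCoeffs.mul {σ : Type*} {P Q : Polynomial (MvPolynomial σ K)} {a b : ℕ} (hP : HomogCoeffs P a)
    (hQ : HomogCoeffs Q b) : HomogCoeffs (P * Q) (a + b) := by
  intro q
  rw [Polynomial.coeff_mul]
  exact MvPolynomial.IsHomogeneous.sum _ _ _ fun x _ => (hP _).mul (hQ _)

theorem HomogCoeffs.sum {σ ι : Type*} (s : Finset ι) {P : ι → Polynomial (MvPolynomial σ K)} {d : ℕ}
    (h : ∀ i ∈ s, HomogCoeffs (P i) d) : HomogCoeffs (∑ i ∈ s, P i) d := by
  intro q
  rw [Polynomial.finsetSum_coeff]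
  exact MvPolynomial.IsHomogeneous.sum _ _ _ fun i hi => h i hi q

theorem HomogCoeffs.one {σ : Type*} : HomogCoeffs (1 : Polynomial (MvPolynomial σ K)) 0 := by
  intro q
  rw [Polynomial.coeff_one]
  split_ifs
  · exact MvPolynomial.isHomogeneous_one _ _
  · exact MvPolynomial.isHomogeneous_zero _ _ _

theorem HomogCoeffs.prod {σ ι : Type*} (s : Finset ι) {P : ι → Polynomial (MvPolynomial σ K)} {d : ι → ℕ}
    (h : ∀ i ∈ s, HomogCoeffs (P i) (d i)) : HomogCoeffs (∏ i ∈ s, P i) (∑ i ∈ s, d i) := by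
  classical
  induction s using Finset.induction with
  | empty => simpa using HomogCoeffs.one
  | insert a s ha ih =>
    rw [Finset.prod_insert ha, Finset.sum_insert ha]
    exact (h a (Finset.mem_insert_self a s)).mul (ih fun i hi => h i (Finset.mem_insert_of_mem hi))

theorem HomogCoeffs.pow {σ : Type*} {P : Polynomial (MvPolynomial σ K)} {a : ℕ} (hP : HomogCoeffs P a)
    (e : ℕ) : HomogCoeffs (P ^ e) (e * a) := by
  induction e with
  | zero => simpa using HomogCoeffs.one
  | succ e ih => rw [pow_succ, Nat.succ_mul]; exact ih.mul hP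

open MvPolynomial in
/-- Substitute polynomials of degree `≤ s` for the variables. -/
noncomputable def substPoly {n : ℕ} (s : ℕ) (g : MvPolynomial (Fin n) (Polynomial K)) :
    Polynomial (MvPolynomial (Fin n × Fin (s + 1)) K) :=
  eval₂ (Polynomial.mapRingHom C) (fun j => ∑ l : Fin (s + 1), Polynomial.C (X (j, l)) * Polynomial.X ^ (l : ℕ)) g

theorem substPoly_spec {n : ℕ} (s : ℕ) {g : MvPolynomial (Fin n) (Polynomial K)} {d e : ℕ}
    (hg : g.IsHomogeneous d) (he : ∀ m ∈ g.support, (g.coeff m).natDegree ≤ e) :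
    HomogCoeffs (substPoly s g) d ∧ (substPoly s g).natDegree ≤ e + d * s := by
  have hsub : ∀ j : Fin n, HomogCoeffs (∑ l : Fin (s + 1),
      Polynomial.C (MvPolynomial.X (j, l) : MvPolynomial (Fin n × Fin (s + 1)) K) * Polynomial.X ^ (l : ℕ)) 1 :=
    fun j => HomogCoeffs.sum _ fun l _ q => by
      rw [Polynomial.coeff_C_mul_X_pow]
      split_ifs
      · exact MvPolynomial.isHomogeneous_X _ _
      · exact MvPolynomial.isHomogeneous_zero _ _ _
  have hdeg : ∀ j : Fin n, (∑ l : Fin (s + 1),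
      Polynomial.C (MvPolynomial.X (j, l) : MvPolynomial (Fin n × Fin (s + 1)) K) * Polynomial.X ^ (l : ℕ)).natDegree ≤ s :=
    fun j => Polynomial.natDegree_sum_le_of_forall_le _ _ fun l _ =>
      (Polynomial.natDegree_C_mul_X_pow_le _ _).trans (Nat.lt_succ_iff.1 l.isLt)
  rw [substPoly, MvPolynomial.eval₂_eq]
  have hdm : ∀ m ∈ g.support, ∑ i ∈ m.support, m i = d := fun m hm => by
    by_contra hne
    exact (MvPolynomial.mem_support_iff.1 hm) (hg.coeff_eq_zero (by rwa [Finsupp.degree_apply]))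
  constructor
  · refine HomogCoeffs.sum _ fun m hm => ?_
    rw [show d = 0 + ∑ i ∈ m.support, m i * 1 by simp [hdm m hm]]
    refine HomogCoeffs.mul (fun q => ?_) (HomogCoeffs.prod _ fun i _ => (hsub i).pow _)
    rw [Polynomial.coe_mapRingHom, Polynomial.coeff_map]
    exact MvPolynomial.isHomogeneous_C _ _
  · refine Polynomial.natDegree_sum_le_of_forall_le _ _ fun m hm => ?_
    refine Polynomial.natDegree_mul_le.trans (add_le_add ?_ ?_)
    · exact le_trans Polynomial.natDegree_map_le (he m hm)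
    · refine le_trans (Polynomial.natDegree_prod_le _ _) ?_
      rw [← hdm m hm, Finset.sum_mul]
      exact Finset.sum_le_sum fun i _ => Polynomial.natDegree_pow_le.trans (Nat.mul_le_mul le_rfl (hdeg i))

theorem eval_substPoly {n : ℕ} (s : ℕ) (g : MvPolynomial (Fin n) (Polynomial K))
    (y : Fin n × Fin (s + 1) → K) :
    (substPoly s g).map (MvPolynomial.eval y) =
      MvPolynomial.eval (fun j => ∑ l : Fin (s + 1), Polynomial.C (y (j, l)) * Polynomial.X ^ (l : ℕ)) g := by
  rw [substPoly, ← Polynomial.coe_mapRingHom (MvPolynomial.eval y), MvPolynomial.eval₂_comp_left]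
  have h1 : (Polynomial.mapRingHom (MvPolynomial.eval y)).comp (Polynomial.mapRingHom MvPolynomial.C) =
      RingHom.id (Polynomial K) := by
    ext r <;> simp
  rw [h1]
  refine congrArg (fun φ => MvPolynomial.eval₂ (RingHom.id _) φ g) (funext fun j => ?_)
  simp [Polynomial.map_sum]

/-- A common zero of forms over `K[t]`. -/
theorem exists_poly_zero {i : ℕ} (hK : IsCi K i) {r n : ℕ} (g : Fin r → MvPolynomial (Fin n) (Polynomial K))
    (d : Fin r → ℕ) (hg : ∀ ρ, (g ρ).IsHomogeneous (d ρ)) (hd : ∀ ρ, 0 < d ρ)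
    (h : ∑ ρ, d ρ ^ (i + 1) < n) :
    ∃ x : Fin n → Polynomial K, x ≠ 0 ∧ ∀ ρ, MvPolynomial.eval x (g ρ) = 0 := by
  classical
  let e : ℕ := Finset.univ.sup fun ρ => (g ρ).support.sup fun m => ((g ρ).coeff m).natDegree
  have he : ∀ ρ, ∀ m ∈ (g ρ).support, ((g ρ).coeff m).natDegree ≤ e := fun ρ m hm =>
    le_trans (Finset.le_sup (f := fun m => ((g ρ).coeff m).natDegree) hm)
      (Finset.le_sup (f := fun ρ => (g ρ).support.sup fun m => ((g ρ).coeff m).natDegree) (Finset.mem_univ ρ))
  set T := ∑ ρ, d ρ ^ i with hT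
  set s := (e + 1) * T with hs
  have hspec := fun ρ => substPoly_spec s (hg ρ) (he ρ)
  obtain ⟨y, hy, hy'⟩ := exists_zero hK
    (fun p : (ρ : Fin r) × Fin (e + d ρ * s + 1) => (substPoly s (g p.1)).coeff (p.2 : ℕ)) (fun p => d p.1)
    (fun p => (hspec p.1).1 _) (fun p => hd p.1) (by
      simp only [Fintype.sum_sigma, Finset.sum_const, Finset.card_univ, Fintype.card_fin,
        Fintype.card_prod, smul_eq_mul]
      have h1 : ∀ ρ, (e + d ρ * s + 1) * d ρ ^ i = s * d ρ ^ (i + 1) + (e + 1) * d ρ ^ i := fun ρ => by ring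
      simp only [h1, Finset.sum_add_distrib, ← Finset.mul_sum, ← hT, ← hs]
      calc s * ∑ ρ, d ρ ^ (i + 1) + s = s * (∑ ρ, d ρ ^ (i + 1) + 1) := by ring
        _ ≤ s * n := Nat.mul_le_mul le_rfl h
        _ < n * (s + 1) := by rw [mul_comm n, Nat.add_mul, one_mul]; omega)
  refine ⟨fun j => ∑ l : Fin (s + 1), Polynomial.C (y (j, l)) * Polynomial.X ^ (l : ℕ), ?_, fun ρ => ?_⟩
  · intro h0
    refine hy (funext fun ⟨j, l⟩ => ?_)
    have := congrArg (fun p => Polynomial.coeff p (l : ℕ)) (congrFun h0 j)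
    simp only [Polynomial.finsetSum_coeff, Polynomial.coeff_C_mul_X_pow, Pi.zero_apply,
      Polynomial.coeff_zero, Fin.val_inj, Finset.sum_ite_eq, Finset.mem_univ, if_true] at this
    exact this
  · rw [← eval_substPoly]
    ext q
    rw [Polynomial.coeff_map, Polynomial.coeff_zero]
    by_cases hq : q < e + d ρ * s + 1
    · exact hy' ⟨ρ, ⟨q, hq⟩⟩
    · rw [Polynomial.coeff_eq_zero_of_natDegree_lt (by have := (hspec ρ).2; omega), map_zero]

theorem isCi_ratFunc {i : ℕ} (hK : IsCi K i) : IsCi (RatFunc K) (i + 1) := by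
  classical
  intro r n f d hf hd hlt
  -- clear denominators
  have hclear : ∀ ρ, ∃ (c : Polynomial K) (g : MvPolynomial (Fin n) (Polynomial K)), c ≠ 0 ∧
      g.IsHomogeneous (d ρ) ∧
      MvPolynomial.map (algebraMap (Polynomial K) (RatFunc K)) g =
        MvPolynomial.C (algebraMap (Polynomial K) (RatFunc K) c) * f ρ := by
    intro ρ
    obtain ⟨c, hc⟩ := IsLocalization.exist_integer_multiples (nonZeroDivisors (Polynomial K)) (f ρ).support
      (fun m => (f ρ).coeff m)
    choose! z hz using hc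
    refine ⟨c, ∑ m ∈ (f ρ).support, MvPolynomial.monomial m (z m), nonZeroDivisors.ne_zero c.2,
      MvPolynomial.IsHomogeneous.sum _ _ _ fun m hm => MvPolynomial.isHomogeneous_monomial _ ?_, ?_⟩
    · by_contra hne
      exact (MvPolynomial.mem_support_iff.1 hm) ((hf ρ).coeff_eq_zero hne)
    · conv_rhs => rw [(f ρ).as_sum, Finset.mul_sum]
      rw [map_sum]
      refine Finset.sum_congr rfl fun m hm => ?_
      rw [MvPolynomial.map_monomial, MvPolynomial.C_mul_monomial, hz m hm, Algebra.smul_def]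
  choose c g hc hg hgf using hclear
  obtain ⟨x, hx, hx'⟩ := exists_poly_zero hK g d hg hd hlt
  refine ⟨fun j => algebraMap (Polynomial K) (RatFunc K) (x j), fun h0 => hx (funext fun j =>
    RatFunc.algebraMap_injective K (by rw [Pi.zero_apply, map_zero]; exact congrFun h0 j)), fun ρ => ?_⟩
  have h1 : MvPolynomial.eval (fun j => algebraMap (Polynomial K) (RatFunc K) (x j))
      (MvPolynomial.map (algebraMap (Polynomial K) (RatFunc K)) (g ρ)) = 0 := by
    rw [MvPolynomial.eval_map, ← map_zero (algebraMap (Polynomial K) (RatFunc K)), ← hx' ρ]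
    exact (MvPolynomial.eval₂_comp _ x (g ρ)).symm
  rw [hgf, map_mul, MvPolynomial.eval_C] at h1
  exact (mul_eq_zero.1 h1).resolve_left fun h2 =>
    hc ρ (RatFunc.algebraMap_injective K (by rw [h2, map_zero]))

end Groth.L21.Tsen
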