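import Groth.Prelude.Def_Curves
import Mathlib.RingTheory.MvPolynomial.Homogeneous
import Mathlib.RingTheory.Nullstellensatz
import Mathlib.RingTheory.Ideal.KrullsHeightTheorem
import Mathlib.RingTheory.Polynomial.Basic
import Mathlib.FieldTheory.IntermediateField.Adjoin.Basic
import Mathlib.FieldTheory.IsAlgClosed.Basic
import Mathlib.LinearAlgebra.Basis.Basic
import Mathlib.Algebra.MvPolynomial.Rename

/-! Property `C_i` for systems of forms. -/

namespace Groth.L21.Tsen

open MvPolynomial
open _root_.Curves (IsCi IsCr)

universe u v w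

section

variable {K : Type*} [Field K] {i : ℕ}

/-- `C_i` for arbitrary finite index types. -/
theorem exists_zero (hK : IsCi K i) {σ ρ : Type*} [Fintype σ] [Fintype ρ] (f : ρ → MvPolynomial σ K)
    (d : ρ → ℕ) (hf : ∀ j, (f j).IsHomogeneous (d j)) (hd : ∀ j, 0 < d j)
    (h : ∑ j, d j ^ i < Fintype.card σ) : ∃ a : σ → K, a ≠ 0 ∧ ∀ j, eval a (f j) = 0 := by
  let e := Fintype.equivFin σ
  let e' := Fintype.equivFin ρ
  obtain ⟨a, ha, ha'⟩ := hK (Fintype.card ρ) (Fintype.card σ) (fun j => rename e (f (e'.symm j)))
    (fun j => d (e'.symm j)) (fun j => (hf _).rename_isHomogeneous) (fun j => hd _)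
    (by rwa [Equiv.sum_comp e'.symm (fun j => d j ^ i)])
  refine ⟨a ∘ e, fun h0 => ha (funext fun x => ?_), fun j => ?_⟩
  · have := congrFun h0 (e.symm x)
    simpa using this
  · have := ha' (e' j)
    rwa [Equiv.symm_apply_apply, eval_rename] at this

theorem isCi_succ (hK : IsCi K i) : IsCi K (i + 1) := by
  intro r n f d hf hd hlt
  refine hK r n f d hf hd (lt_of_le_of_lt (Finset.sum_le_sum fun j _ => ?_) hlt)
  exact Nat.pow_le_pow_right (hd j) (Nat.le_succ i)

theorem isCi_of_ringEquiv {L : Type*} [Field L] (e : K ≃+* L) (hK : IsCi K i) : IsCi L i := by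
  intro r n f d hf hd hlt
  obtain ⟨a, ha, ha'⟩ := hK r n (fun j => MvPolynomial.map e.symm.toRingHom (f j)) d
    (fun j => (hf j).map _) hd hlt
  refine ⟨fun x => e (a x), fun h0 => ha (funext fun x => e.injective (by simpa using congrFun h0 x)),
    fun j => e.symm.injective ?_⟩
  have h := ha' j
  rw [eval_map, ← show e.symm.toRingHom ∘ (fun x => e (a x)) = a from
      funext fun x => e.symm_apply_apply (a x), ← eval₂_comp] at h
  rw [map_zero]
  exact h

end

section Component

variable {K : Type*} [CommRing K] {L : Type*} [CommRing L] [Algebra K L] {ι σ : Type*}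

/-- The `l`-th component of a polynomial with coefficients in a free `K`-algebra. -/
noncomputable def component (b : Module.Basis ι K L) (l : ι) (P : MvPolynomial σ L) : MvPolynomial σ K :=
  ∑ m ∈ P.support, monomial m (b.coord l (coeff m P))

theorem component_isHomogeneous (b : Module.Basis ι K L) (l : ι) {P : MvPolynomial σ L} {d : ℕ}
    (hP : P.IsHomogeneous d) : (component b l P).IsHomogeneous d :=
  IsHomogeneous.sum _ _ _ fun m hm => isHomogeneous_monomial _ <| by
    by_contra hne
    exact (mem_support_iff.1 hm) (hP.coeff_eq_zero hne)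

theorem eval_algebraMap [Fintype ι] (b : Module.Basis ι K L) (P : MvPolynomial σ L) (a : σ → K) :
    eval (fun x => algebraMap K L (a x)) P = ∑ l, eval a (component b l P) • b l := by
  have h : ∀ l, eval a (component b l P) =
      b.coord l (eval (fun x => algebraMap K L (a x)) P) := by
    intro l
    rw [component, map_sum, eval_eq, map_sum]
    refine Finset.sum_congr rfl fun m _ => ?_
    rw [eval_monomial, Finsupp.prod]
    simp only [← map_pow, ← map_prod]
    rw [mul_comm (coeff m P), ← Algebra.smul_def, map_smul, smul_eq_mul, mul_comm]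
  simp only [h, Module.Basis.coord_apply, b.sum_repr]

/-- Substitute `x = ∑ e_l y_l`. -/
noncomputable def substBasis [Fintype ι] (b : Module.Basis ι K L) (f : MvPolynomial σ L) :
    MvPolynomial (σ × ι) L :=
  eval₂ C (fun j => ∑ l, C (b l) * X (j, l)) f

theorem substBasis_isHomogeneous [Fintype ι] (b : Module.Basis ι K L) {f : MvPolynomial σ L} {d : ℕ}
    (hf : f.IsHomogeneous d) : (substBasis b f).IsHomogeneous d := by
  have := hf.eval₂ C (fun j => ∑ l, C (b l) * X (j, l)) (n := 1)
    (fun r => isHomogeneous_C _ r)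
    (fun j => IsHomogeneous.sum _ _ _ fun l _ => isHomogeneous_C_mul_X _ _)
  rwa [one_mul] at this

theorem eval_substBasis [Fintype ι] (b : Module.Basis ι K L) (f : MvPolynomial σ L) (y : σ × ι → K) :
    eval (fun x => algebraMap K L (y x)) (substBasis b f) = eval (fun j => ∑ l, y (j, l) • b l) f := by
  rw [substBasis, eval₂_comp_left]
  have h1 : (eval fun x => algebraMap K L (y x)).comp C = RingHom.id L := by ext r; simp
  rw [h1]
  refine congrArg (fun g => eval₂ (RingHom.id L) g f) (funext fun j => ?_)
  simp [Algebra.smul_def, mul_comm]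

theorem sum_smul_ne_zero [Fintype ι] (b : Module.Basis ι K L) {y : σ × ι → K} (hy : y ≠ 0) :
    (fun j => ∑ l, y (j, l) • b l) ≠ (0 : σ → L) := by
  intro h0
  refine hy (funext fun ⟨j, l⟩ => ?_)
  have := congrArg (fun z => b.repr z l) (congrFun h0 j)
  rw [b.repr_sum_self (fun l => y (j, l))] at this
  simpa using this

end Component

/-- Finite extensions preserve `C_i`. -/
theorem isCi_of_finite (K L : Type*) [Field K] [Field L] [Algebra K L] [FiniteDimensional K L] {i : ℕ}
    (hK : IsCi K i) : IsCi L i := by
  intro r n f d hf hd hlt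
  set b := Module.finBasis K L
  obtain ⟨y, hy, hy'⟩ := exists_zero hK
    (fun p : Fin r × Fin (Module.finrank K L) => component b p.2 (substBasis b (f p.1))) (fun p => d p.1)
    (fun p => component_isHomogeneous _ _ (substBasis_isHomogeneous b (hf p.1))) (fun p => hd p.1)
    (by
      rw [Fintype.sum_prod_type]
      simp only [Finset.sum_const, Finset.card_univ, Fintype.card_fin, Fintype.card_prod, smul_eq_mul,
        ← Finset.mul_sum]
      rw [mul_comm n]
      exact Nat.mul_lt_mul_of_pos_left hlt Module.finrank_pos)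
  refine ⟨_, sum_smul_ne_zero b hy, fun ρ => ?_⟩
  rw [← eval_substBasis, eval_algebraMap b]
  exact Finset.sum_eq_zero fun l _ => by rw [hy' (ρ, l), zero_smul]

/-- Algebraic extensions preserve `C_i`. -/
theorem isCi_of_isAlgebraic (K : Type u) (L : Type v) [Field K] [Field L] [Algebra K L]
    [Algebra.IsAlgebraic K L] {i : ℕ} (hK : IsCi K i) : IsCi L i := by
  intro r n f d hf hd hlt
  classical
  let S : Finset L := Finset.univ.biUnion fun j => (f j).coeffs
  let E : IntermediateField K L := IntermediateField.adjoin K (S : Set L)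
  haveI : FiniteDimensional K E :=
    IntermediateField.finiteDimensional_adjoin fun x _ => (Algebra.IsAlgebraic.isAlgebraic x).isIntegral
  have hmem : ∀ j, (f j) ∈ Set.range (MvPolynomial.map (algebraMap E L)) := by
    intro j
    rw [mem_range_map_iff_coeffs_subset]
    intro c hc
    refine ⟨⟨c, IntermediateField.subset_adjoin K _ ?_⟩, rfl⟩
    exact Finset.mem_coe.2 (Finset.mem_biUnion.2 ⟨j, Finset.mem_univ j, hc⟩)
  choose g hg using hmem
  obtain ⟨a, ha, ha'⟩ := isCi_of_finite K E hK r n g d
    (fun j => IsHomogeneous.of_map (algebraMap E L).injective (by rw [hg]; exact hf j)) hd hlt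
  refine ⟨fun x => algebraMap E L (a x), fun h0 => ha (funext fun x => ?_), fun j => ?_⟩
  · exact (algebraMap E L).injective (by rw [Pi.zero_apply, map_zero]; exact congrFun h0 x)
  · rw [← hg j, eval_map, ← map_zero (algebraMap E L), ← ha' j]
    exact (eval₂_comp (algebraMap E L) a (g j)).symm

/-- An algebraically closed field is `C_0`. -/
theorem isCi_zero (k : Type*) [Field k] [IsAlgClosed k] : IsCi k 0 := by
  intro r n f d hf hd hlt
  classical
  simp only [pow_zero, Finset.sum_const, Finset.card_univ, Fintype.card_fin, smul_eq_mul, mul_one] at hlt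
  by_contra hne
  push Not at hne
  let m₀ : Ideal (MvPolynomial (Fin n) k) := RingHom.ker (eval (0 : Fin n → k))
  have hm0 : m₀.IsMaximal := RingHom.ker_isMaximal_of_surjective _ (fun c => ⟨C c, eval_C c⟩)
  have hI : Ideal.span (Set.range f) ≤ m₀ := by
    rw [Ideal.span_le]
    rintro _ ⟨j, rfl⟩
    rw [SetLike.mem_coe, RingHom.mem_ker, eval_eq]
    refine Finset.sum_eq_zero fun m hm => ?_
    have hne : m ≠ 0 := fun h0 =>
      (mem_support_iff.1 hm) ((hf j).coeff_eq_zero (by rw [h0, map_zero]; exact (hd j).ne))
    obtain ⟨x, hx⟩ := Finsupp.support_nonempty_iff.2 hne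
    rw [Finset.prod_eq_zero hx (zero_pow (Finsupp.mem_support_iff.1 hx)), mul_zero]
  obtain ⟨P, hP, hPm⟩ := Ideal.exists_minimalPrimes_le hI
  haveI hPp : P.IsPrime := hP.1.1
  have hheight : P.height ≤ r := by
    refine le_trans (Ideal.height_le_card_of_mem_minimalPrimes_span (Set.finite_range f) hP) ?_
    have : (Set.range f).ncard ≤ r := by
      rw [← Set.image_univ]
      exact le_trans (Set.ncard_image_le Set.finite_univ) (by simp)
    exact_mod_cast this
  have hzero : zeroLocus k P ⊆ {0} := by
    intro a ha
    by_contra ha0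
    obtain ⟨j, hj⟩ := hne a ha0
    exact hj ((aeval_eq_eval (f := a) ▸ rfl : eval a (f j) = aeval a (f j)).trans
      (ha _ (hP.1.2 (Ideal.subset_span ⟨j, rfl⟩))))
  have hmP : m₀ ≤ P := by
    rw [← IsPrime.vanishingIdeal_zeroLocus (K := k) P]
    intro p hp a ha
    rw [Set.mem_singleton_iff.1 (hzero ha)]
    exact hp
  have hmlt : (n : ℕ∞) ≤ m₀.height := by
    -- the chain of coordinate ideals
    let ev : ℕ → MvPolynomial (Fin n) k →ₐ[k] MvPolynomial (Fin n) k := fun j =>
      aeval fun x => if (x : ℕ) < j then 0 else X x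
    let Q : ℕ → Ideal (MvPolynomial (Fin n) k) := fun j => RingHom.ker (ev j)
    have hQp : ∀ j, (Q j).IsPrime := fun j => RingHom.ker_isPrime _
    have hmono : ∀ j, j < n → Q j < Q (j + 1) := by
      intro j hj
      refine lt_of_le_of_ne (fun p hp => ?_) (fun h => ?_)
      · have hc : ev (j + 1) = (ev (j + 1)).comp (ev j) := by
          apply algHom_ext
          intro x
          simp only [AlgHom.comp_apply, ev, aeval_X]
          by_cases hx : (x : ℕ) < j
          · rw [if_pos hx, if_pos (by omega), map_zero]
          · rw [if_neg hx, aeval_X]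
        rw [RingHom.mem_ker, hc, AlgHom.comp_apply, show ev j p = 0 from hp, map_zero]
      · have h1 : (X ⟨j, hj⟩ : MvPolynomial (Fin n) k) ∈ Q (j + 1) := by
          rw [RingHom.mem_ker]; simp [ev]
        rw [← h, RingHom.mem_ker] at h1
        simp [ev] at h1
    have hle : ∀ j, j ≤ n → (j : ℕ∞) ≤ (Q j).height := by
      intro j
      induction j with
      | zero => intro _; simp
      | succ j ih =>
        intro hj
        haveI := hQp j
        haveI := hQp (j + 1)
        have h1 := Ideal.height_strict_mono_of_isPrime (hmono j (by omega))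
        have h2 := ih (by omega)
        push_cast
        exact le_trans (add_le_add h2 le_rfl) (Order.add_one_le_of_lt h1)
    refine le_trans (hle n le_rfl) (Ideal.height_mono ?_)
    intro p hp
    have hc : (eval (0 : Fin n → k)) p = aeval (0 : Fin n → k) (ev n p) := by
      rw [← aeval_eq_eval]
      change aeval (0 : Fin n → k) p = ((aeval (0 : Fin n → k)).comp (ev n)) p
      congr 1
      apply algHom_ext
      intro x
      simp [ev, x.isLt]
    rw [RingHom.mem_ker, hc, show ev n p = 0 from hp, map_zero]
  have := le_trans hmlt (le_trans (Ideal.height_mono hmP) hheight)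
  exact absurd (ENat.coe_le_coe.1 this) (not_le.2 hlt)

end Groth.L21.Tsen
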